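import Groth.Agent.PairHens.Fp
import Groth.Agent.PairHens.Nbhd
import Groth.Agent.PairHens.Basic
import Groth.Agent.Hensel.FiniteEtale

/-!
A finite étale algebra over `R ⧸ I` lifts to a finite étale algebra over an étale neighbourhood
of `(R, I)`.
-/

set_option linter.all false
set_option autoImplicit false
set_option backward.isDefEq.respectTransparency.types false

universe u

open TensorProduct

namespace Groth.Agent.SmFinLift

variable {R : Type u} [CommRing R] {I : Ideal R}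

/-- An element of `S ⊗ N` dying in the henselization is killed by an element invertible at the
point, for flat `N`. -/
theorem exists_killed_tensor {S N : Type u} [CommRing S] [Algebra R S] [Algebra.Etale R S]
    [CommRing N] [Algebra R N] [Module.Flat R N] (φ : S →ₐ[R] PairHens.Hz R I) (z : S ⊗[R] N)
    (hz : Algebra.TensorProduct.map φ (AlgHom.id R N) z = 0) :
    ∃ t : S, IsUnit (PairHens.εH R I (φ t)) ∧ (t ⊗ₜ[R] (1 : N)) * z = 0 := by
  let l : S →ₗ[R] PairHens.Hz R I := φ.toLinearMap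
  have hex := Module.Flat.rTensor_exact N (LinearMap.exact_subtype_ker_map l)
  have hz' : l.rTensor N z = 0 := by
    have : ∀ w : S ⊗[R] N, l.rTensor N w = Algebra.TensorProduct.map φ (AlgHom.id R N) w := by
      intro w
      induction w using TensorProduct.induction_on with
      | zero => simp
      | tmul a b => simp [l]
      | add a b ha hb => simp only [map_add, ha, hb]
    rw [this, hz]
  obtain ⟨y, rfl⟩ := (hex z).1 hz'
  clear hz hz'
  induction y using TensorProduct.induction_on with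
  | zero => exact ⟨1, by rw [map_one, map_one]; exact isUnit_one, by simp⟩
  | tmul k n =>
    obtain ⟨t, ht, htk⟩ := PairHens.exists_killed φ k.1 k.2
    refine ⟨t, ht, ?_⟩
    show (t ⊗ₜ[R] (1 : N)) * ((k : S) ⊗ₜ[R] n) = 0
    rw [Algebra.TensorProduct.tmul_mul_tmul, htk, TensorProduct.zero_tmul]
  | add a b ha hb =>
    obtain ⟨s, hs, hsa⟩ := ha
    obtain ⟨t, ht, htb⟩ := hb
    refine ⟨s * t, by rw [map_mul, map_mul]; exact hs.mul ht, ?_⟩
    rw [show ((s * t) ⊗ₜ[R] (1 : N)) = (s ⊗ₜ[R] (1 : N)) * (t ⊗ₜ[R] (1 : N)) by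
      rw [Algebra.TensorProduct.tmul_mul_tmul, mul_one], map_add, mul_add, mul_comm (s ⊗ₜ[R] (1 : N)),
      mul_assoc, hsa, mul_zero, zero_add, mul_comm (t ⊗ₜ[R] (1 : N)), mul_assoc, htb, mul_zero]

/-- The map on `D ⊗ R'` defined by a point of `D` and a lift `Φ`. -/
noncomputable def pt {D R' C : Type u} [CommRing D] [Algebra R D] [CommRing R'] [Algebra R R'] [CommRing C]
    [Algebra R C] [Algebra (R ⧸ I) C] [IsScalarTower R (R ⧸ I) C] (ε : D →ₐ[R] R ⧸ I) (Φ : R' →ₐ[R] C) :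
    D ⊗[R] R' →ₐ[R] C :=
  Algebra.TensorProduct.lift ((IsScalarTower.toAlgHom R (R ⧸ I) C).comp ε) Φ fun _ _ => Commute.all _ _

theorem pt_tmul {D R' C : Type u} [CommRing D] [Algebra R D] [CommRing R'] [Algebra R R'] [CommRing C]
    [Algebra R C] [Algebra (R ⧸ I) C] [IsScalarTower R (R ⧸ I) C] (ε : D →ₐ[R] R ⧸ I) (Φ : R' →ₐ[R] C)
    (d : D) (r : R') : pt ε Φ (d ⊗ₜ[R] r) = algebraMap (R ⧸ I) C (ε d) * Φ r :=
  Algebra.TensorProduct.lift_tmul _ _ _ _ _

theorem map_le_ker_pt {D C : Type u} [CommRing D] [Algebra R D] [CommRing C]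
    [Algebra R C] [Algebra (R ⧸ I) C] [IsScalarTower R (R ⧸ I) C] (f : D →ₐ[R] C) :
    I.map (algebraMap R D) ≤ RingHom.ker f.toRingHom := by
  rw [Ideal.map_le_iff_le_comap]
  intro a ha
  show f (algebraMap R D a) = 0
  rw [f.commutes, IsScalarTower.algebraMap_apply R (R ⧸ I) C, Ideal.Quotient.algebraMap_eq,
    Ideal.Quotient.eq_zero_iff_mem.2 ha, map_zero]

/-- Modulo `I`, `D ⊗ R'` is the image of `R'`, if `D = R + I D`. -/
theorem exists_sub_tmul_mem {D R' : Type u} [CommRing D] [Algebra R D] [CommRing R'] [Algebra R R']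
    (hD : ∀ d : D, ∃ a, d - algebraMap R D a ∈ I.map (algebraMap R D)) (z : D ⊗[R] R') :
    ∃ r : R', z - (1 : D) ⊗ₜ[R] r ∈ I.map (algebraMap R (D ⊗[R] R')) := by
  induction z using TensorProduct.induction_on with
  | zero => exact ⟨0, by rw [TensorProduct.tmul_zero, sub_zero]; exact zero_mem _⟩
  | tmul a r =>
    obtain ⟨c, hc⟩ := hD a
    refine ⟨c • r, ?_⟩
    have h1 := Ideal.mem_map_of_mem (Algebra.TensorProduct.includeLeft : D →ₐ[R] D ⊗[R] R').toRingHom hc
    rw [Ideal.map_map, show (Algebra.TensorProduct.includeLeft : D →ₐ[R] D ⊗[R] R').toRingHom.comp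
      (algebraMap R D) = algebraMap R (D ⊗[R] R') from RingHom.ext fun a => AlgHom.commutes (Algebra.TensorProduct.includeLeft : D →ₐ[R] D ⊗[R] R') a] at h1
    have h2 : (a ⊗ₜ[R] r : D ⊗[R] R') - (1 : D) ⊗ₜ[R] (c • r) =
        ((a - algebraMap R D c) ⊗ₜ[R] (1 : R')) * ((1 : D) ⊗ₜ[R] r) := by
      rw [Algebra.TensorProduct.tmul_mul_tmul, mul_one, one_mul, TensorProduct.sub_tmul,
        ← TensorProduct.smul_tmul, ← Algebra.algebraMap_eq_smul_one]
    rw [h2]
    exact Ideal.mul_mem_right _ _ h1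
  | add x y hx hy =>
    obtain ⟨r, hr⟩ := hx
    obtain ⟨s, hs⟩ := hy
    refine ⟨r + s, ?_⟩
    rw [TensorProduct.tmul_add, add_sub_add_comm]
    exact add_mem hr hs

/-- The idempotent over a henselian pair, with its equations. -/
theorem exists_idem_equations {H R' C : Type u} [CommRing H] [Algebra R H]
    [HenselianRing H (I.map (algebraMap R H))]
    (hH : ∀ d : H, ∃ a, d - algebraMap R H a ∈ I.map (algebraMap R H))
    [CommRing R'] [Algebra R R'] [Algebra.Etale R R']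
    [CommRing C] [Algebra R C] [Algebra (R ⧸ I) C] [IsScalarTower R (R ⧸ I) C] [Module.Finite R C]
    (ε : H →ₐ[R] R ⧸ I) (Φ : R' →ₐ[R] C) (hΦ : Function.Surjective Φ)
    (hker : RingHom.ker Φ.toRingHom = I.map (algebraMap R R')) :
    ∃ e : H ⊗[R] R', IsIdempotentElem e ∧ pt ε Φ e = 0 ∧
      ∀ g : R', ∃ p : Polynomial H, p.Monic ∧
        (1 - e) * Polynomial.aeval ((1 : H) ⊗ₜ[R] g : H ⊗[R] R') p = 0 := by
  have hIM : (I.map (algebraMap R H)).map (algebraMap H (H ⊗[R] R')) = I.map (algebraMap R (H ⊗[R] R')) := by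
    rw [Ideal.map_map, ← IsScalarTower.algebraMap_eq]
  have hfin : Module.Finite H ((H ⊗[R] R') ⧸ (I.map (algebraMap R H)).map (algebraMap H (H ⊗[R] R'))) := by
    rw [hIM]
    haveI : Module.Finite R (R' ⧸ I.map (algebraMap R R')) :=
      Module.Finite.equiv ((Ideal.quotientEquivAlgOfEq R hker.symm).trans
        (Ideal.quotientKerAlgEquivOfSurjective hΦ)).toLinearEquiv.symm
    have hle : I.map (algebraMap R R') ≤ (I.map (algebraMap R (H ⊗[R] R'))).comap
        (Algebra.TensorProduct.includeRight : R' →ₐ[R] H ⊗[R] R') := by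
      rw [Ideal.map_le_iff_le_comap]
      intro a ha
      show (Algebra.TensorProduct.includeRight : R' →ₐ[R] H ⊗[R] R') (algebraMap R R' a) ∈
        I.map (algebraMap R (H ⊗[R] R'))
      rw [AlgHom.commutes]
      exact Ideal.mem_map_of_mem _ ha
    haveI : Module.Finite R ((H ⊗[R] R') ⧸ I.map (algebraMap R (H ⊗[R] R'))) :=
      Module.Finite.of_surjective (Ideal.quotientMapₐ _ _ hle).toLinearMap fun y => by
        obtain ⟨m, rfl⟩ := Ideal.Quotient.mk_surjective y
        obtain ⟨r, hr⟩ := exists_sub_tmul_mem hH m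
        exact ⟨Ideal.Quotient.mk _ r, (Ideal.Quotient.eq.2 hr).symm⟩
    exact Module.Finite.of_restrictScalars_finite R H _
  obtain ⟨e, he, heI, hB⟩ := Hensel.exists_finite_factor (A := H) hfin
  rw [hIM] at heI
  refine ⟨e, he, map_le_ker_pt (pt ε Φ) heI, fun g => ?_⟩
  obtain ⟨p, hp, hp0⟩ := Algebra.IsIntegral.isIntegral (R := H)
    (Ideal.Quotient.mk (Ideal.span {e}) ((1 : H) ⊗ₜ[R] g : H ⊗[R] R'))
  refine ⟨p, hp, ?_⟩
  rw [← Polynomial.aeval_def, ← Ideal.Quotient.mkₐ_eq_mk H, Polynomial.aeval_algHom_apply,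
    Ideal.Quotient.mkₐ_eq_mk, Ideal.Quotient.eq_zero_iff_mem, Ideal.mem_span_singleton'] at hp0
  obtain ⟨c, hc⟩ := hp0
  rw [← hc, show (1 - e) * (c * e) = c * (e - e * e) by ring, he.eq, sub_self, mul_zero]

theorem map_aeval_one_tmul {S D R' : Type u} [CommRing S] [Algebra R S] [CommRing D] [Algebra R D]
    [CommRing R'] [Algebra R R'] (φ : S →ₐ[R] D) (g : R') (q : Polynomial S) :
    Algebra.TensorProduct.map φ (AlgHom.id R R') (Polynomial.aeval ((1 : S) ⊗ₜ[R] g : S ⊗[R] R') q) =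
      Polynomial.aeval ((1 : D) ⊗ₜ[R] g : D ⊗[R] R') (q.map φ.toRingHom) := by
  induction q using Polynomial.induction_on' with
  | add a b ha hb => simp only [map_add, Polynomial.map_add, ha, hb]
  | monomial n c =>
    simp [Polynomial.aeval_monomial, Algebra.TensorProduct.algebraMap_apply]

theorem map_pt {S D R' C : Type u} [CommRing S] [Algebra R S] [CommRing D] [Algebra R D]
    [CommRing R'] [Algebra R R'] [CommRing C] [Algebra R C] [Algebra (R ⧸ I) C] [IsScalarTower R (R ⧸ I) C]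
    (φ : S →ₐ[R] D) (ε : D →ₐ[R] R ⧸ I) (ε' : S →ₐ[R] R ⧸ I) (h : ∀ s, ε (φ s) = ε' s)
    (Φ : R' →ₐ[R] C) (z : S ⊗[R] R') :
    pt ε Φ (Algebra.TensorProduct.map φ (AlgHom.id R R') z) = pt ε' Φ z := by
  induction z using TensorProduct.induction_on with
  | zero => simp
  | tmul a b => simp [pt_tmul, h]
  | add a b ha hb => simp only [map_add, ha, hb]

/-- An algebra of finite type whose generators satisfy monic equations is finite. -/
theorem finite_of_equations {A N : Type u} [CommRing A] [Algebra R A] [CommRing N] [Algebra R N]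
    [Algebra.FiniteType R N] (e : A ⊗[R] N) (gens : Finset N)
    (hgens : Algebra.adjoin R (gens : Set N) = ⊤)
    (h : ∀ g ∈ gens, ∃ p : Polynomial A, p.Monic ∧
      (1 - e) * Polynomial.aeval ((1 : A) ⊗ₜ[R] g : A ⊗[R] N) p = 0) :
    Module.Finite A ((A ⊗[R] N) ⧸ Ideal.span {e}) := by
  suffices Algebra.IsIntegral A ((A ⊗[R] N) ⧸ Ideal.span {e}) from Algebra.IsIntegral.finite
  refine ⟨fun b => ?_⟩
  obtain ⟨z, rfl⟩ := Ideal.Quotient.mk_surjective b
  have hgen : ∀ g ∈ gens,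
      IsIntegral A (Ideal.Quotient.mkₐ A (Ideal.span {e}) ((1 : A) ⊗ₜ[R] g)) := by
    intro g hg
    obtain ⟨p, hp, hp0⟩ := h g hg
    refine ⟨p, hp, ?_⟩
    rw [← Polynomial.aeval_def, Polynomial.aeval_algHom_apply, Ideal.Quotient.mkₐ_eq_mk,
      Ideal.Quotient.eq_zero_iff_mem, Ideal.mem_span_singleton']
    exact ⟨Polynomial.aeval ((1 : A) ⊗ₜ[R] g : A ⊗[R] N) p, by linear_combination -hp0⟩
  show IsIntegral A (Ideal.Quotient.mkₐ A (Ideal.span {e}) z)
  induction z using TensorProduct.induction_on with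
  | zero => rw [map_zero]; exact isIntegral_zero
  | tmul a r =>
    have hr : r ∈ Algebra.adjoin R (gens : Set N) := hgens.symm ▸ Algebra.mem_top
    have h1 : IsIntegral A (Ideal.Quotient.mkₐ A (Ideal.span {e}) ((1 : A) ⊗ₜ[R] r)) := by
      induction hr using Algebra.adjoin_induction with
      | mem y hy => exact hgen y hy
      | algebraMap c =>
        rw [show ((1 : A) ⊗ₜ[R] algebraMap R N c) = algebraMap A (A ⊗[R] N) (algebraMap R A c) by
          rw [Algebra.TensorProduct.algebraMap_apply, Algebra.algebraMap_eq_smul_one,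
            ← TensorProduct.smul_tmul, ← Algebra.algebraMap_eq_smul_one]
          rfl, AlgHom.commutes]
        exact isIntegral_algebraMap
      | add x y _ _ hx hy => rw [TensorProduct.tmul_add, map_add]; exact hx.add hy
      | mul x y _ _ hx hy =>
        rw [show ((1 : A) ⊗ₜ[R] (x * y)) = ((1 : A) ⊗ₜ[R] x) * ((1 : A) ⊗ₜ[R] y) by
          rw [Algebra.TensorProduct.tmul_mul_tmul, one_mul], map_mul]
        exact hx.mul hy
    rw [show (a ⊗ₜ[R] r) = algebraMap A (A ⊗[R] N) a * ((1 : A) ⊗ₜ[R] r) by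
      rw [Algebra.TensorProduct.algebraMap_apply, Algebra.TensorProduct.tmul_mul_tmul, one_mul, mul_one]
      rfl, map_mul, AlgHom.commutes]
    exact isIntegral_algebraMap.mul h1
  | add x y hx hy => rw [map_add]; exact hx.add hy

/-- A quotient by an idempotent of an étale algebra is étale. -/
theorem etale_quot_idem {A N : Type u} [CommRing A] [CommRing N] [Algebra A N] [Algebra.Etale A N]
    (e : N) (he : IsIdempotentElem e) : Algebra.Etale A (N ⧸ Ideal.span {e}) := by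
  haveI : IsLocalization.Away (1 - e) (N ⧸ Ideal.span {e}) := IsLocalization.away_of_isIdempotentElem he.one_sub
    (by rw [Ideal.Quotient.algebraMap_eq, Ideal.mk_ker, sub_sub_cancel]) Ideal.Quotient.mk_surjective
  haveI : Algebra.Etale N (N ⧸ Ideal.span {e}) := Algebra.Etale.of_isLocalizationAway (1 - e)
  exact Algebra.Etale.comp A N _

/-- The idempotent, the equations and the element to invert, on one étale stage. -/
theorem exists_stage {R' C : Type u} [CommRing R'] [Algebra R R'] [Algebra.Etale R R']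
    [CommRing C] [Algebra R C] [Algebra (R ⧸ I) C] [IsScalarTower R (R ⧸ I) C] [Module.Finite R C]
    (Φ : R' →ₐ[R] C) (hΦ : Function.Surjective Φ)
    (hker : RingHom.ker Φ.toRingHom = I.map (algebraMap R R')) (gens : Finset R') :
    ∃ (S : Type u) (_ : CommRing S) (_ : Algebra R S) (_ : Algebra.Etale R S)
      (σ : S →ₐ[R] R ⧸ I) (t : S) (e : S ⊗[R] R'),
      IsUnit (σ t) ∧ pt σ Φ e = 0 ∧ (t ⊗ₜ[R] (1 : R')) * (e * e - e) = 0 ∧
      ∀ g ∈ gens, ∃ q : Polynomial S, q.Monic ∧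
        (t ⊗ₜ[R] (1 : R')) * ((1 - e) * Polynomial.aeval ((1 : S) ⊗ₜ[R] g : S ⊗[R] R') q) = 0 := by
  classical
  haveI : HenselianRing (PairHens.Hz R I) (I.map (algebraMap R (PairHens.Hz R I))) :=
    (PairHens.isPairHenselization R I).1
  have hH : ∀ d : PairHens.Hz R I, ∃ a, d - algebraMap R _ a ∈ I.map (algebraMap R (PairHens.Hz R I)) :=
    fun d => by
      obtain ⟨a, ha⟩ := Ideal.Quotient.mk_surjective (PairHens.εH R I d)
      refine ⟨a, ?_⟩
      rw [PairHens.mem_map_iff, map_sub, AlgHom.commutes, ← ha]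
      exact sub_self _
  obtain ⟨e, he, he0, hint⟩ := exists_idem_equations hH (PairHens.εH R I) Φ hΦ hker
  choose p hp hp0 using hint
  obtain ⟨T, hT⟩ := TensorProduct.exists_finset (R := R) e
  obtain ⟨S, _, _, _, hbij, φ, hφ⟩ := PairHens.exists_nbhd_finset (PairHens.isPairHenselization R I)
    (T.image Prod.fst ∪ gens.biUnion fun g => (p g).coeffs)
  have hem : ∀ x ∈ T, ∃ s, φ s = x.1 := fun x hx =>
    hφ (Finset.mem_union_left _ (Finset.mem_image_of_mem _ hx))
  choose es hes using hem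
  let e₁ : S ⊗[R] R' := ∑ x ∈ T.attach, es x.1 x.2 ⊗ₜ[R] x.1.2
  have he₁ : Algebra.TensorProduct.map φ (AlgHom.id R R') e₁ = e := by
    rw [hT, map_sum, ← Finset.sum_attach T]
    refine Finset.sum_congr rfl fun x _ => ?_
    rw [Algebra.TensorProduct.map_tmul, hes, AlgHom.id_apply]
  have hlift : ∀ g : gens, ∃ q : Polynomial S, q.Monic ∧ q.map φ.toRingHom = p g.1 := by
    intro g
    have hl : p g.1 ∈ Polynomial.lifts φ.toRingHom := by
      rw [Polynomial.lifts_iff_coeff_lifts]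
      intro n
      by_cases hn : (p g.1).coeff n = 0
      · exact ⟨0, by rw [hn, map_zero]⟩
      · exact hφ (Finset.mem_union_right _ (Finset.mem_biUnion.2
          ⟨g.1, g.2, Polynomial.coeff_mem_coeffs hn⟩))
    obtain ⟨q, hq, -, hqm⟩ := Polynomial.lifts_and_natDegree_eq_and_monic hl (hp g.1)
    exact ⟨q, hqm, hq⟩
  choose q hqm hq using hlift
  obtain ⟨t₀, ht₀, ht₀z⟩ := exists_killed_tensor φ (e₁ * e₁ - e₁) (by
    rw [map_sub, map_mul, he₁, he.eq, sub_self])
  have hk : ∀ g : gens, ∃ t : S, IsUnit (PairHens.εH R I (φ t)) ∧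
      (t ⊗ₜ[R] (1 : R')) * ((1 - e₁) * Polynomial.aeval ((1 : S) ⊗ₜ[R] g.1 : S ⊗[R] R') (q g)) = 0 :=
    fun g => exists_killed_tensor φ _ (by
      rw [map_mul, map_sub, map_one, he₁, map_aeval_one_tmul, hq g, hp0 g.1])
  choose t ht htz using hk
  have hmul : ∀ (a b : S) (z : S ⊗[R] R'), (b ⊗ₜ[R] (1 : R')) * z = 0 →
      ((a * b) ⊗ₜ[R] (1 : R')) * z = 0 := fun a b z hz => by
    rw [show ((a * b) ⊗ₜ[R] (1 : R')) = (a ⊗ₜ[R] (1 : R')) * (b ⊗ₜ[R] (1 : R')) by
      rw [Algebra.TensorProduct.tmul_mul_tmul, mul_one], mul_assoc, hz, mul_zero]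
  refine ⟨S, inferInstance, inferInstance, inferInstance, (PairHens.εH R I).comp φ,
    t₀ * ∏ g, t g, e₁, ?_, ?_, ?_, fun g hg => ?_⟩
  · show IsUnit (PairHens.εH R I (φ (t₀ * ∏ g, t g)))
    rw [map_mul, map_mul, map_prod, map_prod]
    exact ht₀.mul (IsUnit.prod_iff.2 fun g _ => ht g)
  · rw [← map_pt φ (PairHens.εH R I) _ (fun s => rfl), he₁, he0]
  · rw [mul_comm t₀]
    exact hmul _ _ _ ht₀z
  · refine ⟨q ⟨g, hg⟩, hqm _, ?_⟩
    obtain ⟨c, hc⟩ := Finset.dvd_prod_of_mem t (Finset.mem_univ (⟨g, hg⟩ : gens))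
    rw [hc, show t₀ * (t ⟨g, hg⟩ * c) = (t₀ * c) * t ⟨g, hg⟩ by ring]
    exact hmul _ _ _ (htz ⟨g, hg⟩)

/-- The finite étale algebra cut out on a stage. -/
theorem exists_package {A R' C : Type u} [CommRing A] [Algebra R A] [CommRing R'] [Algebra R R']
    [Algebra.Etale R R'] [CommRing C] [Algebra R C] [Algebra (R ⧸ I) C] [IsScalarTower R (R ⧸ I) C]
    (σ : A →ₐ[R] R ⧸ I) (hD : ∀ d : A, ∃ a, d - algebraMap R A a ∈ I.map (algebraMap R A))
    (Φ : R' →ₐ[R] C) (hΦ : Function.Surjective Φ)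
    (hker : RingHom.ker Φ.toRingHom = I.map (algebraMap R R')) (gens : Finset R')
    (hgens : Algebra.adjoin R (gens : Set R') = ⊤)
    (e : A ⊗[R] R') (he : IsIdempotentElem e) (he0 : pt σ Φ e = 0)
    (heq : ∀ g ∈ gens, ∃ p : Polynomial A, p.Monic ∧
      (1 - e) * Polynomial.aeval ((1 : A) ⊗ₜ[R] g : A ⊗[R] R') p = 0) :
    ∃ (B : Type u) (_ : CommRing B) (_ : Algebra A B) (_ : Algebra R B) (_ : IsScalarTower R A B),
      Module.Finite A B ∧ Algebra.Etale A B ∧ ∃ Φ : B →ₐ[R] C, Function.Surjective Φ ∧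
        RingHom.ker Φ.toRingHom = I.map (algebraMap R B) ∧
        ∀ x : A, Φ (algebraMap A B x) = algebraMap (R ⧸ I) C (σ x) := by
  let J : Ideal (A ⊗[R] R') := Ideal.span {e}
  let ΦB : ((A ⊗[R] R') ⧸ J) →ₐ[R] C := Ideal.Quotient.liftₐ J (pt σ Φ) fun x hx => by
    obtain ⟨c, rfl⟩ := Ideal.mem_span_singleton'.1 hx
    rw [map_mul, he0, mul_zero]
  have hΦB : ∀ z, ΦB (Ideal.Quotient.mk J z) = pt σ Φ z := fun z => rfl
  refine ⟨(A ⊗[R] R') ⧸ J, inferInstance, inferInstance, inferInstance, inferInstance,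
    finite_of_equations e gens hgens heq, etale_quot_idem e he, ΦB, fun c => ?_, ?_, fun x => ?_⟩
  · obtain ⟨r, rfl⟩ := hΦ c
    refine ⟨Ideal.Quotient.mk J ((1 : A) ⊗ₜ[R] r), ?_⟩
    rw [hΦB, pt_tmul, map_one, map_one, one_mul]
  · refine le_antisymm (fun b hb => ?_) (map_le_ker_pt ΦB)
    obtain ⟨z, rfl⟩ := Ideal.Quotient.mk_surjective b
    obtain ⟨r, hr⟩ := exists_sub_tmul_mem (R' := R') hD z
    have h1 : pt σ Φ (z - (1 : A) ⊗ₜ[R] r) = 0 := map_le_ker_pt (pt σ Φ) hr
    rw [map_sub, show pt σ Φ z = 0 from hb, zero_sub, neg_eq_zero, pt_tmul, map_one, map_one,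
      one_mul] at h1
    have h3 := Ideal.mem_map_of_mem
      (Algebra.TensorProduct.includeRight : R' →ₐ[R] A ⊗[R] R').toRingHom (hker.le h1)
    rw [Ideal.map_map, show (Algebra.TensorProduct.includeRight : R' →ₐ[R] A ⊗[R] R').toRingHom.comp
      (algebraMap R R') = algebraMap R (A ⊗[R] R') from RingHom.ext fun a =>
        AlgHom.commutes (Algebra.TensorProduct.includeRight : R' →ₐ[R] A ⊗[R] R') a] at h3
    have h4 : z ∈ I.map (algebraMap R (A ⊗[R] R')) := by
      rw [← sub_add_cancel z ((1 : A) ⊗ₜ[R] r)]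
      exact add_mem hr h3
    have h5 := Ideal.mem_map_of_mem (Ideal.Quotient.mk J) h4
    rwa [Ideal.map_map] at h5
  · show ΦB (Ideal.Quotient.mk J (x ⊗ₜ[R] (1 : R'))) = _
    rw [hΦB, pt_tmul, map_one, mul_one]

set_option maxHeartbeats 3200000 in
theorem exists_nbhd_finite_etale_lift (I : Ideal R) (C : Type u) [CommRing C] [Algebra R C]
    [Algebra (R ⧸ I) C] [IsScalarTower R (R ⧸ I) C] [Module.Finite (R ⧸ I) C]
    [Algebra.Etale (R ⧸ I) C] :
    ∃ (S : Type u) (_ : CommRing S) (_ : Algebra R S) (_ : Algebra.Etale R S)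
      (σ : S →ₐ[R] R ⧸ I) (_ : RingHom.ker σ.toRingHom = I.map (algebraMap R S))
      (B : Type u) (_ : CommRing B) (_ : Algebra S B) (_ : Algebra R B) (_ : IsScalarTower R S B),
      Module.Finite S B ∧ Algebra.Etale S B ∧ ∃ Φ : B →ₐ[R] C, Function.Surjective Φ ∧
        RingHom.ker Φ.toRingHom = I.map (algebraMap R B) ∧
        ∀ x : S, Φ (algebraMap S B x) = algebraMap (R ⧸ I) C (σ x) := by
  classical
  obtain ⟨R', _, _, _, Φ, hΦ, hker⟩ := Hensel.exists_etale_lift_of_quotient (A := R) (I := I) C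
  haveI : Module.Finite R C := Module.Finite.trans (R ⧸ I) C
  obtain ⟨gens, hgens⟩ := (inferInstance : Algebra.FiniteType R R').out
  obtain ⟨S, _, _, _, σ₀, t, e₁, ht, he0, hidem, heq⟩ := exists_stage Φ hΦ hker gens
  obtain ⟨v, hv, hdvd, hbij⟩ := PairHens.exists_away σ₀ t ht
  haveI : Algebra.Etale R (Localization.Away v) :=
    haveI := Algebra.Etale.of_isLocalizationAway (R := S) (A := Localization.Away v) v
    Algebra.Etale.comp R S (Localization.Away v)
  have hu : ∀ s : Submonoid.powers v, IsUnit (σ₀ s) := by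
    rintro ⟨_, n, rfl⟩
    show IsUnit (σ₀ (v ^ n))
    rw [map_pow]
    exact hv.pow n
  let σ : Localization.Away v →ₐ[R] R ⧸ I :=
    IsLocalization.liftAlgHom (M := Submonoid.powers v) (f := σ₀) hu
  let j : S →ₐ[R] Localization.Away v := IsScalarTower.toAlgHom R S (Localization.Away v)
  let g₁ := Algebra.TensorProduct.map j (AlgHom.id R R')
  have hD := PairHens.exists_sub_mem_of_bijective hbij
  have hσI : ∀ a ∈ I, σ (algebraMap R (Localization.Away v) a) = 0 := fun a ha => by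
    rw [σ.commutes]
    exact Ideal.Quotient.eq_zero_iff_mem.2 ha
  have hσk : RingHom.ker σ.toRingHom = I.map (algebraMap R (Localization.Away v)) := by
    refine le_antisymm (fun x hx => ?_) (Ideal.map_le_iff_le_comap.2 hσI)
    obtain ⟨r, hr⟩ := hD x
    have h2 : σ (x - algebraMap R _ r) = 0 := (Ideal.map_le_iff_le_comap.2 hσI :
      I.map (algebraMap R (Localization.Away v)) ≤ RingHom.ker σ.toRingHom) hr
    rw [map_sub, show σ x = 0 from hx, zero_sub, neg_eq_zero, σ.commutes,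
      Ideal.Quotient.algebraMap_eq, Ideal.Quotient.eq_zero_iff_mem] at h2
    rw [← sub_add_cancel x (algebraMap R _ r)]
    exact add_mem hr (Ideal.mem_map_of_mem _ h2)
  have hunit : IsUnit (j t ⊗ₜ[R] (1 : R') : Localization.Away v ⊗[R] R') :=
    (isUnit_of_dvd_unit (map_dvd (algebraMap S (Localization.Away v)) hdvd)
      (IsLocalization.Away.algebraMap_isUnit v)).map
      (Algebra.TensorProduct.includeLeft : Localization.Away v →ₐ[R] Localization.Away v ⊗[R] R')
  have hzero : ∀ z : S ⊗[R] R', (t ⊗ₜ[R] (1 : R')) * z = 0 → g₁ z = 0 := fun z hz => by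
    have h1 := congrArg g₁ hz
    rw [map_mul, map_zero, show g₁ (t ⊗ₜ[R] (1 : R')) = j t ⊗ₜ[R] (1 : R') from
      Algebra.TensorProduct.map_tmul _ _ _ _] at h1
    exact hunit.mul_right_eq_zero.1 h1
  have he₂ : IsIdempotentElem (g₁ e₁) := sub_eq_zero.1 (by
    rw [← map_mul, ← map_sub]
    exact hzero _ hidem)
  have hσj : ∀ s, σ (j s) = σ₀ s := fun s => IsLocalization.lift_eq _ _
  have hψ₂ : pt σ Φ (g₁ e₁) = 0 := by rw [map_pt j σ σ₀ hσj, he0]
  obtain ⟨B, i₁, i₂, i₃, i₄, hB⟩ := exists_package σ hD Φ hΦ hker gens hgens (g₁ e₁) he₂ hψ₂ fun g hg => by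
    obtain ⟨q, hqm, hq0⟩ := heq g hg
    refine ⟨q.map j.toRingHom, hqm.map _, ?_⟩
    have h1 := hzero _ hq0
    rwa [map_mul, map_sub, map_one, map_aeval_one_tmul] at h1
  exact ⟨_, inferInstance, inferInstance, inferInstance, σ, hσk, B, i₁, i₂, i₃, i₄, hB⟩

end Groth.Agent.SmFinLift
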